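import Groth.Agent.Lib.RegLoc.Normal
import Groth.Agent.Lib.LocProp.RegularSmooth
import Mathlib

/-!
# Regular local algebras with rational residue field and lifting of jets

For a local `k`-algebra `A` essentially of finite type with residue field `k`:
regular ⇔ formally smooth ⇔ every jet `A → k[t]/(t^l)` lifts to `A → k[t]/(t^(l+1))`
(the last one for an infinite field `k`).
-/

noncomputable section

namespace GrothLib.ArtSmooth26

open IsLocalRing Polynomial

universe u

variable (k : Type u) [Field k]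

/-- The truncated polynomial ring `k[t]/(t^l)`. -/
abbrev Jet (l : ℕ) : Type u := k[X] ⧸ Ideal.span {(X : k[X]) ^ l}

/-- The class of `t`. -/
abbrev tJet (l : ℕ) : Jet k l := Ideal.Quotient.mk _ X

/-- Truncation. -/
abbrev jetMap {l l' : ℕ} (h : l ≤ l') : Jet k l' →ₐ[k] Jet k l :=
  Ideal.Quotient.factorₐ k (Ideal.span_singleton_le_span_singleton.mpr (pow_dvd_pow (X : k[X]) h))

/-- Evaluation at `t = 0`. -/
def jetEps (l : ℕ) (hl : 1 ≤ l) : Jet k l →ₐ[k] k :=
  Ideal.Quotient.liftₐ _ (Polynomial.aeval (0 : k)) fun a ha => by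
    obtain ⟨b, rfl⟩ := Ideal.mem_span_singleton.1 ha
    rw [map_mul, map_pow, aeval_X, zero_pow (by omega), zero_mul]

variable {k}

theorem jetEps_mk (l : ℕ) (hl : 1 ≤ l) (p : k[X]) :
    jetEps k l hl (Ideal.Quotient.mk _ p) = Polynomial.aeval (0 : k) p := rfl

theorem tJet_pow_self (l : ℕ) : tJet k l ^ l = 0 := by
  rw [← map_pow, Ideal.Quotient.eq_zero_iff_mem]
  exact Ideal.mem_span_singleton_self _

theorem tJet_pow_ne_zero {j l : ℕ} (h : j < l) : tJet k l ^ j ≠ 0 := by
  rw [← map_pow, Ne, Ideal.Quotient.eq_zero_iff_mem, Ideal.mem_span_singleton,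
    Polynomial.X_pow_dvd_iff]
  intro hh
  simpa using hh j h

theorem exists_eq_add_tJet_mul (l : ℕ) (hl : 1 ≤ l) (a : Jet k l) :
    ∃ b, a = algebraMap k _ (jetEps k l hl a) + tJet k l * b := by
  obtain ⟨p, rfl⟩ := Ideal.Quotient.mk_surjective a
  refine ⟨Ideal.Quotient.mk _ p.divX, ?_⟩
  rw [jetEps_mk, ← map_mul]
  show _ = Ideal.Quotient.mk _ (algebraMap k k[X] _) + _
  rw [← map_add]
  congr 1
  conv_lhs => rw [← p.X_mul_divX_add]
  rw [add_comm, Polynomial.aeval_def, Polynomial.eval₂_at_zero]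
  simp

theorem isNilpotent_of_jetEps_eq_zero (l : ℕ) (hl : 1 ≤ l) (a : Jet k l)
    (ha : jetEps k l hl a = 0) : IsNilpotent a := by
  obtain ⟨b, hb⟩ := exists_eq_add_tJet_mul l hl a
  rw [hb, ha, map_zero, zero_add]
  exact ⟨l, by rw [mul_pow, tJet_pow_self, zero_mul]⟩

theorem jetEps_eq_zero_of_isNilpotent (l : ℕ) (hl : 1 ≤ l) (a : Jet k l)
    (ha : IsNilpotent a) : jetEps k l hl a = 0 :=
  isNilpotent_iff_eq_zero.1 (ha.map (jetEps k l hl))

theorem isUnit_jet (l : ℕ) (hl : 1 ≤ l) (a : Jet k l) (ha : jetEps k l hl a ≠ 0) : IsUnit a := by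
  have hn : IsNilpotent (a - algebraMap k _ (jetEps k l hl a)) :=
    isNilpotent_of_jetEps_eq_zero l hl _ (by simp [AlgHom.commutes])
  have := hn.isUnit_add_left_of_commute ((isUnit_iff_ne_zero.2 ha).map (algebraMap k (Jet k l)))
    (Commute.all _ _)
  rwa [add_sub_cancel] at this

theorem isLocalRing_jet (l : ℕ) (hl : 1 ≤ l) : IsLocalRing (Jet k l) :=
  haveI : Nontrivial (Jet k l) := (jetEps k l hl).toRingHom.domain_nontrivial
  IsLocalRing.of_isUnit_or_isUnit_one_sub_self fun a => by
    by_cases h : jetEps k l hl a = 0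
    · exact Or.inr (isUnit_jet l hl _ (by simp [h]))
    · exact Or.inl (isUnit_jet l hl _ h)

theorem moduleFinite_jet (l : ℕ) : Module.Finite k (Jet k l) :=
  (monic_X_pow (R := k) l).finite_adjoinRoot

theorem ker_jetMap_sq (l : ℕ) (hl : 1 ≤ l) :
    RingHom.ker (jetMap k (Nat.le_succ l)) ^ 2 = ⊥ := by
  rw [eq_bot_iff, sq, Ideal.mul_le]
  intro a ha b hb
  obtain ⟨p, rfl⟩ := Ideal.Quotient.mk_surjective a
  obtain ⟨q, rfl⟩ := Ideal.Quotient.mk_surjective b
  rw [RingHom.mem_ker] at ha hb
  have ha' : p ∈ Ideal.span {(X : k[X]) ^ l} := Ideal.Quotient.eq_zero_iff_mem.1 ha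
  have hb' : q ∈ Ideal.span {(X : k[X]) ^ l} := Ideal.Quotient.eq_zero_iff_mem.1 hb
  rw [Ideal.mem_bot, ← map_mul, Ideal.Quotient.eq_zero_iff_mem, Ideal.mem_span_singleton]
  rw [Ideal.mem_span_singleton] at ha' hb'
  exact (pow_dvd_pow X (by omega : l + 1 ≤ l + l)).trans (pow_add (X : k[X]) l l ▸ mul_dvd_mul ha' hb')

/-- An algebra map to `k` from a local `k`-algebra with residue field `k` kills the maximal ideal. -/
theorem algHom_eq_zero_of_mem {A : Type u} [CommRing A] [IsLocalRing A] [Algebra k A]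
    (f : A →ₐ[k] k) {a : A} (ha : a ∈ maximalIdeal A) : f a = 0 := by
  have : RingHom.ker f.toRingHom = maximalIdeal A :=
    eq_maximalIdeal (RingHom.ker_isMaximal_of_surjective _ fun c => ⟨algebraMap k A c, f.commutes c⟩)
  exact RingHom.mem_ker.1 (this ▸ ha)

variable {A : Type u} [CommRing A] [IsLocalRing A] [Algebra k A]

theorem exists_sub_mem (hres : Function.Surjective (algebraMap k (ResidueField A))) (a : A) :
    ∃ c : k, a - algebraMap k A c ∈ maximalIdeal A := by
  obtain ⟨c, hc⟩ := hres (residue A a)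
  refine ⟨c, (residue_eq_zero_iff _).1 ?_⟩
  rw [map_sub, ← hc, IsScalarTower.algebraMap_apply k A (ResidueField A)]
  exact sub_self _

theorem residue_surjective_of_surjective {R : Type u} [CommRing R] [IsLocalRing R] [Algebra k R]
    (π : R →ₐ[k] A) (hπ : Function.Surjective π)
    (hres : Function.Surjective (algebraMap k (ResidueField A))) :
    Function.Surjective (algebraMap k (ResidueField R)) := fun z => by
  obtain ⟨r, rfl⟩ := residue_surjective z
  obtain ⟨c, hc⟩ := exists_sub_mem hres (π r)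
  refine ⟨c, ?_⟩
  rw [IsScalarTower.algebraMap_apply k R (ResidueField R)]
  show residue R _ = residue R r
  rw [eq_comm, ← sub_eq_zero, ← map_sub, residue_eq_zero_iff]
  by_contra h
  rw [notMem_maximalIdeal] at h
  refine (mem_maximalIdeal _).1 hc ?_
  have := h.map π
  rwa [map_sub, AlgHom.commutes] at this

variable (k A) in
theorem exists_polynomial_presentation [Algebra.EssFiniteType k A]
    (hres : Function.Surjective (algebraMap k (ResidueField A))) :
    ∃ (n : ℕ) (q : Ideal (MvPolynomial (Fin n) k)) (_ : q.IsMaximal)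
      (π : Localization.AtPrime q →ₐ[k] A), Function.Surjective π := by
  let S := Algebra.EssFiniteType.subalgebra k A
  obtain ⟨n, f, hf⟩ := Algebra.FiniteType.iff_quotient_mvPolynomial''.mp
    (inferInstance : Algebra.FiniteType k S)
  let g : MvPolynomial (Fin n) k →ₐ[k] A := S.val.comp f
  let ρ : MvPolynomial (Fin n) k →ₐ[k] ResidueField A := (IsScalarTower.toAlgHom k A _).comp g
  let q : Ideal (MvPolynomial (Fin n) k) := RingHom.ker ρ.toRingHom
  have hq : q.IsMaximal := RingHom.ker_isMaximal_of_surjective _ fun z => by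
    obtain ⟨c, rfl⟩ := hres z
    exact ⟨algebraMap k _ c, ρ.commutes c⟩
  have hu : ∀ s : q.primeCompl, IsUnit (g s) := fun s => by
    by_contra h
    exact s.2 (RingHom.mem_ker.2 ((residue_eq_zero_iff _).2 ((mem_maximalIdeal _).2 h)))
  refine ⟨n, q, hq, IsLocalization.liftAlgHom (M := q.primeCompl) (f := g) hu, fun a => ?_⟩
  obtain ⟨⟨x, y⟩, hxy⟩ := IsLocalization.surj (Algebra.EssFiniteType.submonoid k A) a
  obtain ⟨x', hx'⟩ := hf x
  obtain ⟨y', hy'⟩ := hf y.1
  have hy : y' ∈ q.primeCompl := fun h => by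
    have h1 : IsUnit (algebraMap S A y.1) := IsLocalization.map_units A y
    have h2 : algebraMap S A y.1 ∈ maximalIdeal A := by
      have := (residue_eq_zero_iff _).1 (RingHom.mem_ker.1 h)
      rw [← hy']; exact this
    exact (mem_maximalIdeal _).1 h2 h1
  refine ⟨IsLocalization.mk' _ x' (⟨y', hy⟩ : q.primeCompl), ?_⟩
  rw [IsLocalization.liftAlgHom_apply, IsLocalization.lift_mk'_spec]
  show S.val (f x') = S.val (f y') * a
  rw [hx', hy', mul_comm]
  exact hxy.symm

variable (k A) in
/-- Regular local algebras with residue field `k` are formally smooth. -/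
theorem formallySmooth_of_isRegularLocalRing [Algebra.EssFiniteType k A] [IsRegularLocalRing A]
    (hres : Function.Surjective (algebraMap k (ResidueField A))) : Algebra.FormallySmooth k A := by
  obtain ⟨n, q, hq, π, hπ⟩ := exists_polynomial_presentation k A hres
  haveI : Algebra.FormallySmooth k (ResidueField A) :=
    Algebra.FormallySmooth.of_equiv
      (AlgEquiv.ofBijective (Algebra.ofId k (ResidueField A)) ⟨RingHom.injective _, hres⟩)
  letI := π.toRingHom.toAlgebra
  haveI : IsScalarTower k (Localization.AtPrime q) A :=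
    IsScalarTower.of_algebraMap_eq fun r => (π.commutes r).symm
  haveI : Algebra.FormallyEtale (MvPolynomial (Fin n) k) (Localization.AtPrime q) :=
    .of_isLocalization q.primeCompl
  haveI : Algebra.FormallySmooth k (Localization.AtPrime q) := .comp _ (MvPolynomial (Fin n) k) _
  haveI : Module.Free (Localization.AtPrime q) Ω[Localization.AtPrime q⁄k] :=
    .of_equiv (KaehlerDifferential.tensorKaehlerEquivOfFormallyEtale k (MvPolynomial (Fin n) k)
      (Localization.AtPrime q))
  haveI : Algebra.EssFiniteType (MvPolynomial (Fin n) k) (Localization.AtPrime q) :=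
    .of_isLocalization _ q.primeCompl
  haveI : Algebra.EssFiniteType k (Localization.AtPrime q) := .comp _ (MvPolynomial (Fin n) k) _
  exact GrothLib.LocProp.formallySmooth_of_regular_presentation k (Localization.AtPrime q) A hπ

theorem exists_minimal_aux : ∀ (N : ℕ) (R : Type u) [CommRing R] [Algebra k R] [IsRegularLocalRing R],
    (maximalIdeal R).spanFinrank ≤ N → ∀ π : R →ₐ[k] A, Function.Surjective π →
    ∃ (R' : Type u) (_ : CommRing R') (_ : Algebra k R') (_ : IsRegularLocalRing R')
      (π' : R' →ₐ[k] A), Function.Surjective π' ∧ RingHom.ker π' ≤ maximalIdeal R' ^ 2 := by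
  intro N
  induction N with
  | zero =>
    intro R _ _ _ hN π hπ
    refine ⟨R, ‹_›, ‹_›, ‹_›, π, hπ, fun a ha => ?_⟩
    have h0 : maximalIdeal R = ⊥ :=
      (Submodule.spanFinrank_eq_zero_iff_eq_bot (IsNoetherian.noetherian _)).1 (by omega)
    have := le_maximalIdeal (RingHom.ker_ne_top π.toRingHom) ha
    rw [h0, Ideal.mem_bot] at this
    exact this ▸ zero_mem _
  | succ N ih =>
    intro R _ _ _ hN π hπ
    by_cases hle : RingHom.ker π ≤ maximalIdeal R ^ 2
    · exact ⟨R, ‹_›, ‹_›, ‹_›, π, hπ, hle⟩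
    obtain ⟨x, hx, hx2⟩ := SetLike.not_le_iff_exists.1 hle
    have hxm : x ∈ maximalIdeal R := le_maximalIdeal (RingHom.ker_ne_top π.toRingHom) hx
    obtain ⟨hreg, -, hlt⟩ := GrothLib.RegLoc.quotient_isRegularLocalRing hxm hx2
    haveI := hreg
    rw [GrothLib.RegLoc.map_maximalIdeal_quotient] at hlt
    refine ih (R ⧸ Ideal.span {x}) (by omega)
      (Ideal.Quotient.liftₐ _ π fun a ha => ?_) fun a => ?_
    · obtain ⟨b, rfl⟩ := Ideal.mem_span_singleton.1 ha
      rw [map_mul, RingHom.mem_ker.1 hx, zero_mul]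
    · obtain ⟨r, rfl⟩ := hπ a
      exact ⟨Ideal.Quotient.mk _ r, rfl⟩

variable (k A) in
/-- A regular local presentation whose kernel is contained in the square of the maximal ideal. -/
theorem exists_minimal_presentation [Algebra.EssFiniteType k A]
    (hres : Function.Surjective (algebraMap k (ResidueField A))) :
    ∃ (R : Type u) (_ : CommRing R) (_ : Algebra k R) (_ : IsRegularLocalRing R)
      (π : R →ₐ[k] A), Function.Surjective π ∧ RingHom.ker π ≤ maximalIdeal R ^ 2 := by
  obtain ⟨n, q, hq, π, hπ⟩ := exists_polynomial_presentation k A hres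
  exact exists_minimal_aux _ _ le_rfl π hπ

theorem eval₂_smul_of_isHomogeneous {R S σ : Type*} [CommRing R] [CommRing S] (f : R →+* S)
    (c : S) (w : σ → S) {F : MvPolynomial σ R} {d : ℕ} (hF : F.IsHomogeneous d) :
    MvPolynomial.eval₂ f (fun i => c * w i) F = c ^ d * MvPolynomial.eval₂ f w F := by
  simp only [MvPolynomial.eval₂_eq, Finset.mul_sum]
  refine Finset.sum_congr rfl fun m hm => ?_
  have hd : m.degree = d := by
    have := hF (MvPolynomial.mem_support_iff.1 hm)
    rw [Finsupp.degree_eq_weight_one]; exact this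
  simp only [mul_pow, Finset.prod_mul_distrib, Finset.prod_pow_eq_pow_sum]
  rw [show ∑ i ∈ m.support, m i = d from hd]
  ring

variable (k A) in
/-- If all jets lift, a local algebra with residue field `k` is regular. -/
theorem isRegularLocalRing_of_jets [Infinite k] [Algebra.EssFiniteType k A]
    (hres : Function.Surjective (algebraMap k (ResidueField A)))
    (hjet : ∀ l, 1 ≤ l → ∀ φ : A →ₐ[k] Jet k l,
      ∃ ψ : A →ₐ[k] Jet k (l + 1), (jetMap k (Nat.le_succ l)).comp ψ = φ) :
    IsRegularLocalRing A := by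
  obtain ⟨R, _, _, hR, π, hπ, hker⟩ := exists_minimal_presentation k A hres
  suffices h : Function.Injective π from
    IsRegularLocalRing.of_ringEquiv (RingEquiv.ofBijective π.toRingHom ⟨h, hπ⟩)
  rw [injective_iff_map_eq_zero]
  intro f hf
  by_contra hf0
  obtain ⟨d, hd, hd'⟩ := GrothLib.RegLoc.exists_order hf0
  have hd2 : 2 ≤ d := by
    by_contra h
    exact hd' (Ideal.pow_le_pow_right (by omega) (hker hf))
  set n := (maximalIdeal R).spanFinrank with hn
  obtain ⟨x, hx⟩ : ∃ x : Fin n → R, Ideal.span (Set.range x) = maximalIdeal R := by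
    obtain ⟨x, hx⟩ := GrothLib.RegLoc.exists_generators_fin (maximalIdeal R)
    exact ⟨x, hx⟩
  obtain ⟨F, hF, hFe, hF0⟩ := GrothLib.RegLoc.exists_form hx hd hd'
  have hresR := residue_surjective_of_surjective π hπ hres
  let e : k ≃+* ResidueField R := RingEquiv.ofBijective _ ⟨RingHom.injective _, hresR⟩
  let rk : R →+* k := e.symm.toRingHom.comp (residue R)
  have hrk : ∀ c : k, rk (algebraMap k R c) = c := fun c => by
    show e.symm (residue R (algebraMap k R c)) = c
    rw [show residue R (algebraMap k R c) = e c from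
      (IsScalarTower.algebraMap_apply k R (ResidueField R) c).symm, e.symm_apply_apply]
  have hF0' : MvPolynomial.map rk F ≠ 0 := by
    intro h
    refine hF0 ?_
    have h' := congrArg (MvPolynomial.map e.toRingHom) h
    rw [MvPolynomial.map_map, map_zero] at h'
    rwa [show e.toRingHom.comp rk = residue R from RingHom.ext fun r => e.apply_symm_apply _] at h'
  obtain ⟨v, hv⟩ : ∃ v : Fin n → k, MvPolynomial.eval v (MvPolynomial.map rk F) ≠ 0 := by
    by_contra h
    push Not at h
    exact hF0' (MvPolynomial.funext fun v => by rw [h v, map_zero])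
  -- the first order jet
  let g : MvPolynomial (Fin n) k →ₐ[k] R ⧸ maximalIdeal R ^ 2 :=
    MvPolynomial.aeval fun i => Ideal.Quotient.mk _ (x i)
  let θ : MvPolynomial (Fin n) k →ₐ[k] Jet k 2 := MvPolynomial.aeval fun i => v i • tJet k 2
  have hxx : ∀ i j, Ideal.Quotient.mk (maximalIdeal R ^ 2) (x i) * Ideal.Quotient.mk _ (x j) = 0 :=
    fun i j => by
      rw [← map_mul, Ideal.Quotient.eq_zero_iff_mem, sq, ← hx]
      exact Ideal.mul_mem_mul (Ideal.subset_span ⟨i, rfl⟩) (Ideal.subset_span ⟨j, rfl⟩)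
  have htt : ∀ i j, (v i • tJet k 2) * (v j • tJet k 2) = 0 := fun i j => by
    rw [smul_mul_smul_comm, ← sq, tJet_pow_self, smul_zero]
  have hlin : ∀ G, ∃ (c₀ : k) (c : Fin n → k),
      g G = algebraMap k _ c₀ + ∑ i, c i • Ideal.Quotient.mk _ (x i) ∧
      θ G = algebraMap k _ c₀ + ∑ i, c i • (v i • tJet k 2) := fun G => by
    induction G using MvPolynomial.induction_on with
    | C a => exact ⟨a, 0, by simp [g], by simp [θ]⟩
    | add p q hp hq =>
      obtain ⟨a, c, h1, h2⟩ := hp
      obtain ⟨a', c', h1', h2'⟩ := hq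
      exact ⟨a + a', c + c', by simp [h1, h1', add_smul, Finset.sum_add_distrib]; abel,
        by simp [h2, h2', add_smul, Finset.sum_add_distrib]; abel⟩
    | mul_X p j hp =>
      obtain ⟨a, c, h1, h2⟩ := hp
      refine ⟨0, Pi.single j a, ?_, ?_⟩
      · rw [map_mul, h1]
        simp only [g, MvPolynomial.aeval_X, add_mul, Finset.sum_mul, smul_mul_assoc, hxx, smul_zero,
          Finset.sum_const_zero, add_zero, map_zero, zero_add]
        rw [Fintype.sum_eq_single j fun i hi => by simp [hi], Pi.single_eq_same, Algebra.smul_def]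
      · rw [map_mul, h2]
        have htt' : ∀ i j, (c i • v i • tJet k 2) * (v j • tJet k 2) = 0 := fun i j => by
          rw [smul_mul_assoc, htt, smul_zero]
        simp only [θ, MvPolynomial.aeval_X, add_mul, Finset.sum_mul, htt',
          Finset.sum_const_zero, add_zero, map_zero, zero_add]
        rw [Fintype.sum_eq_single j fun i hi => by simp [hi], Pi.single_eq_same]
        exact (Algebra.smul_def a _).symm
  have hg : Function.Surjective g := fun z => by
    obtain ⟨r, rfl⟩ := Ideal.Quotient.mk_surjective z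
    obtain ⟨c, hc⟩ := exists_sub_mem hresR r
    rw [← hx, Ideal.mem_span_range_iff_exists_fun] at hc
    obtain ⟨b, hb⟩ := hc
    choose cb hcb using fun i => exists_sub_mem hresR (b i)
    refine ⟨MvPolynomial.C c + ∑ i, MvPolynomial.C (cb i) * MvPolynomial.X i, ?_⟩
    have h2 : ∀ i, Ideal.Quotient.mk (maximalIdeal R ^ 2) (b i * x i) =
        algebraMap k _ (cb i) * Ideal.Quotient.mk _ (x i) := fun i => by
      rw [← sub_eq_zero, show algebraMap k (R ⧸ maximalIdeal R ^ 2) (cb i) =
        Ideal.Quotient.mk _ (algebraMap k R (cb i)) from rfl, ← map_mul, ← map_sub, ← sub_mul,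
        Ideal.Quotient.eq_zero_iff_mem, sq]
      exact Ideal.mul_mem_mul (hcb i) (hx.le (Ideal.subset_span ⟨i, rfl⟩))
    have h3 : r = algebraMap k R c + ∑ i, b i * x i := by rw [hb]; ring
    rw [h3, map_add (Ideal.Quotient.mk (maximalIdeal R ^ 2)), map_sum (Ideal.Quotient.mk (maximalIdeal R ^ 2))]
    simp only [g, h2, map_add, map_sum, map_mul, MvPolynomial.aeval_C, MvPolynomial.aeval_X]
    rfl
  have hgθ : RingHom.ker g ≤ RingHom.ker θ := fun G hG => by
    obtain ⟨a, c, h1, h2⟩ := hlin G
    rw [RingHom.mem_ker] at hG ⊢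
    rw [hG] at h1
    have hmem : algebraMap k R a + ∑ i, algebraMap k R (c i) * x i ∈ maximalIdeal R ^ 2 := by
      rw [← Ideal.Quotient.eq_zero_iff_mem, map_add, map_sum]
      rw [h1]
      congr 1
      refine Finset.sum_congr rfl fun i _ => ?_
      rw [map_mul, Algebra.smul_def]
      rfl
    have hsum : ∑ i, algebraMap k R (c i) * x i ∈ maximalIdeal R :=
      Ideal.sum_mem _ fun i _ => Ideal.mul_mem_left _ _ (hx.le (Ideal.subset_span ⟨i, rfl⟩))
    have ha : a = 0 := by
      have h3 : rk (algebraMap k R a) = 0 := by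
        show e.symm (residue R _) = 0
        rw [(residue_eq_zero_iff _).2 ((Ideal.add_mem_iff_left _ hsum).1
          (Ideal.pow_le_self two_ne_zero hmem)), map_zero]
      rwa [hrk] at h3
    rw [ha, map_zero, zero_add] at hmem h2
    have hL : (∑ i, MvPolynomial.C (algebraMap k R (c i)) * MvPolynomial.X i :
        MvPolynomial (Fin n) R).IsHomogeneous 1 :=
      MvPolynomial.IsHomogeneous.sum _ _ _ fun i _ => MvPolynomial.isHomogeneous_C_mul_X _ _
    have h4 := GrothLib.RegLoc.map_residue_eq_zero hn.symm hx hL (by simpa using hmem)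
    have hc : ∀ i, c i = 0 := fun i => by
      have h5 := congrArg (MvPolynomial.eval (Pi.single i (1 : ResidueField R))) h4
      simp [Pi.single_apply] at h5
      exact h5
    rw [h2]
    simp [hc]
  let ρ : R →ₐ[k] Jet k 2 :=
    (AlgHom.liftOfSurjective g hg θ hgθ).comp (Ideal.Quotient.mkₐ k _)
  have hρx : ∀ i, ρ (x i) = v i • tJet k 2 := fun i => by
    show AlgHom.liftOfSurjective g hg θ hgθ (Ideal.Quotient.mk _ (x i)) = _
    rw [show Ideal.Quotient.mk (maximalIdeal R ^ 2) (x i) = g (MvPolynomial.X i) from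
      (MvPolynomial.aeval_X (fun i => Ideal.Quotient.mk (maximalIdeal R ^ 2) (x i)) i).symm]
    erw [AlgHom.liftOfSurjective_apply]
    exact MvPolynomial.aeval_X _ _
  have hρker : RingHom.ker π ≤ RingHom.ker ρ := fun a ha => by
    show AlgHom.liftOfSurjective g hg θ hgθ (Ideal.Quotient.mk _ a) = 0
    rw [Ideal.Quotient.eq_zero_iff_mem.2 (hker ha), map_zero]
  have key : ∀ l, ∃ φ : A →ₐ[k] Jet k (l + 2), ∀ i, ∃ b,
      φ (π (x i)) = tJet k (l + 2) * (algebraMap k _ (v i) + tJet k (l + 2) * b) := fun l => by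
    induction l with
    | zero =>
      refine ⟨AlgHom.liftOfSurjective π hπ ρ hρker, fun i => ⟨0, ?_⟩⟩
      erw [AlgHom.liftOfSurjective_apply]
      rw [hρx, mul_zero, add_zero]
      show v i • tJet k 2 = tJet k 2 * algebraMap k (Jet k 2) (v i)
      exact (Algebra.smul_def (A := Jet k 2) (v i) (tJet k 2)).trans (mul_comm _ _)
    | succ l ih =>
      obtain ⟨φ, hφ⟩ := ih
      obtain ⟨ψ, hψ⟩ := hjet (l + 2) (by omega) φ
      refine ⟨ψ, fun i => ?_⟩
      obtain ⟨b, hb⟩ := hφ i
      obtain ⟨p, hp⟩ := Ideal.Quotient.mk_surjective (ψ (π (x i)))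
      obtain ⟨q, hq⟩ := Ideal.Quotient.mk_surjective b
      have h1 : Ideal.Quotient.mk (Ideal.span {(X : k[X]) ^ (l + 2)}) p =
          Ideal.Quotient.mk _ (X * (C (v i) + X * q)) := by
        rw [map_mul, map_add, map_mul, hq, ← Polynomial.algebraMap_eq]
        refine Eq.trans ?_ hb
        rw [← hψ, AlgHom.comp_apply, ← hp]
        rfl
      rw [Ideal.Quotient.mk_eq_mk_iff_sub_mem, Ideal.mem_span_singleton] at h1
      obtain ⟨w, hw⟩ := h1
      refine ⟨Ideal.Quotient.mk _ (q + X ^ l * w), ?_⟩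
      rw [← hp, show p = X * (C (v i) + X * (q + X ^ l * w)) by linear_combination hw]
      rw [map_mul, map_add, map_mul, ← Polynomial.algebraMap_eq]
      rfl
  obtain ⟨φ, hφ⟩ := key (d - 1)
  have hdl : d < d - 1 + 2 := by omega
  choose b hb using hφ
  have h0 : φ (π f) = 0 := by rw [hf, map_zero]
  have h1 : φ (π f) = tJet k (d - 1 + 2) ^ d * MvPolynomial.eval₂ (φ.comp π).toRingHom
      (fun i => algebraMap k _ (v i) + tJet k (d - 1 + 2) * b i) F := by
    rw [← eval₂_smul_of_isHomogeneous _ _ _ hF]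
    simp only [← hb]
    rw [← hFe]
    exact MvPolynomial.eval₂_comp_left (φ.comp π).toRingHom (RingHom.id R) x F
  have hε : ∀ r, jetEps k (d - 1 + 2) (by omega) (φ (π r)) = rk r := fun r => by
    obtain ⟨c, hc⟩ := exists_sub_mem hresR r
    rw [show r = algebraMap k R c + (r - algebraMap k R c) by ring, map_add rk, hrk,
      show rk (r - algebraMap k R c) = 0 by
        show e.symm (residue R _) = 0
        rw [(residue_eq_zero_iff _).2 hc, map_zero], add_zero]
    show ((jetEps k (d - 1 + 2) (by omega)).comp (φ.comp π)) _ = c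
    rw [map_add, algHom_eq_zero_of_mem _ hc, add_zero, AlgHom.commutes]
    rfl
  have hu : IsUnit (MvPolynomial.eval₂ (φ.comp π).toRingHom
      (fun i => algebraMap k _ (v i) + tJet k (d - 1 + 2) * b i) F) := by
    refine isUnit_jet _ (by omega) _ ?_
    convert hv using 1
    rw [MvPolynomial.eval_map]
    refine (MvPolynomial.eval₂_comp_left (jetEps k (d - 1 + 2) (by omega)).toRingHom _ _ F).trans ?_
    congr 1
    · exact RingHom.ext hε
    · funext i
      simp [jetEps_mk, tJet, Polynomial.aeval_X]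
  rw [h0, eq_comm, IsUnit.mul_left_eq_zero hu] at h1
  exact tJet_pow_ne_zero hdl h1

end GrothLib.ArtSmooth26
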