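import Mathlib
import Groth.Agent.Lib.SepField.Smooth

/-!
# Formally smooth artinian local algebras over a field are fields
-/

universe u

namespace GrothLib.ArtSmooth

open IsLocalRing MvPolynomial

theorem isNilpotent_of_mul_eq_zero {A : Type u} [CommRing A] (I : Ideal A)
    (h : ∀ a ∈ I, ∀ c ∈ I, a * c = 0) : IsNilpotent I :=
  ⟨2, by
    rw [pow_two, Ideal.zero_eq_bot, ← le_bot_iff, Ideal.mul_le]
    exact fun a ha c hc => Ideal.mem_bot.2 (h a ha c hc)⟩

/-- The kernel of a presentation of a formally smooth algebra lying in `M * M` lies in `M * J`. -/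
theorem ker_le_mul {F B P : Type u} [CommRing F] [CommRing B] [CommRing P] [Algebra F B] [Algebra F P]
    [Algebra.FormallySmooth F B] (π : P →ₐ[F] B) (hsurj : Function.Surjective π) (M : Ideal P)
    (hJM : RingHom.ker π ≤ M * M) : RingHom.ker π ≤ M * RingHom.ker π := by
  let J : Ideal P := RingHom.ker π
  let K : Ideal P := M * J
  have hKJ : K ≤ J := Ideal.mul_le_right.trans le_rfl
  let f : (P ⧸ K) →ₐ[F] B := Ideal.Quotient.liftₐ K π fun a ha => hKJ ha
  have hf : Function.Surjective f := fun z => by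
    obtain ⟨p, rfl⟩ := hsurj z
    exact ⟨Ideal.Quotient.mk K p, rfl⟩
  have hker : ∀ a ∈ RingHom.ker f, ∀ m ∈ M, a * Ideal.Quotient.mk K m = 0 := by
    intro a ha m hm
    obtain ⟨a, rfl⟩ := Ideal.Quotient.mk_surjective a
    rw [← map_mul, Ideal.Quotient.eq_zero_iff_mem, mul_comm]
    exact Ideal.mul_mem_mul hm ha
  have hkM : ∀ a ∈ RingHom.ker f, ∃ m ∈ M, Ideal.Quotient.mk K m = a := by
    intro a ha
    obtain ⟨a, rfl⟩ := Ideal.Quotient.mk_surjective a
    exact ⟨a, Ideal.mul_le_right (hJM ha), rfl⟩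
  have hfnil : IsNilpotent (RingHom.ker (f : (P ⧸ K) →+* B)) := by
    refine isNilpotent_of_mul_eq_zero _ fun a ha c hc => ?_
    obtain ⟨m, hm, rfl⟩ := hkM c hc
    exact hker a ha m hm
  let t : B →ₐ[F] P ⧸ K := Algebra.FormallySmooth.liftOfSurjective (AlgHom.id F B) f hf hfnil
  have ht : ∀ z, f (t z) = z := fun z => Algebra.FormallySmooth.liftOfSurjective_apply _ _ _ _ z
  have hq : ∀ p, Ideal.Quotient.mk K p - t (π p) ∈ RingHom.ker f := fun p => by
    rw [RingHom.mem_ker, map_sub, ht]
    exact sub_self _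
  have hJK : J ≤ K := by
    intro j hj
    have key : ∀ p ∈ M * M, Ideal.Quotient.mk K p = t (π p) := by
      intro p hp
      refine Submodule.mul_induction_on hp (fun a ha c hc => ?_) fun a c ha hc => by
        rw [map_add, map_add, map_add, ha, hc]
      obtain ⟨a', ha', ea⟩ := hkM _ (hq c)
      have h1 := hker _ (hq a) c hc
      have h2 := hker _ (hq c) a ha
      have h3 := hker _ (hq a) a' ha'
      rw [ea] at h3
      rw [map_mul, map_mul, map_mul]
      linear_combination h1 + h2 - h3
    rw [← Ideal.Quotient.eq_zero_iff_mem, key j (hJM hj), RingHom.mem_ker.1 hj, map_zero]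
  exact hJK

/-- A presentation of an artinian local algebra with coefficient field, with no linear relations. -/
theorem exists_presentation {F B : Type u} [CommRing F] [CommRing B] [Algebra F B] [IsLocalRing B]
    [IsArtinianRing B] (n : Ideal B) (hn_def : n = maximalIdeal B) (hnil : IsNilpotent n)
    (σ : (B ⧸ n) →ₐ[F] B) (hσ : ∀ l, Ideal.Quotient.mk n (σ l) = l) :
    ∃ (r : ℕ) (x : Fin r → n) (π : MvPolynomial (Fin r) (B ⧸ n) →ₐ[F] B), Function.Surjective π ∧
      (∀ i, π (X i) = x i) ∧ n ≤ Ideal.span (Set.range fun i => (x i : B)) ∧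
      RingHom.ker π ≤ Ideal.span (Set.range X) * Ideal.span (Set.range X) := by
  classical
  haveI : n.IsMaximal := hn_def ▸ maximalIdeal.isMaximal B
  letI : Field (B ⧸ n) := Ideal.Quotient.field n
  obtain ⟨r, ⟨b⟩⟩ : ∃ r : ℕ, Nonempty (Module.Basis (Fin r) (B ⧸ n) n.Cotangent) :=
    haveI : Module.Finite B n.Cotangent := Module.Finite.of_surjective n.toCotangent n.toCotangent_surjective
    haveI : Module.Finite (B ⧸ n) n.Cotangent := Module.Finite.of_restrictScalars_finite B _ _
    ⟨_, ⟨Module.finBasis (B ⧸ n) n.Cotangent⟩⟩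
  choose x hx using fun i => n.toCotangent_surjective (b i)
  let P := MvPolynomial (Fin r) (B ⧸ n)
  let π : P →ₐ[F] B :=
    { MvPolynomial.eval₂Hom (σ : (B ⧸ n) →+* B) (fun i => (x i : B)) with
      commutes' := fun c => by
        show MvPolynomial.eval₂Hom (σ : (B ⧸ n) →+* B) _ (algebraMap F P c) = _
        rw [IsScalarTower.algebraMap_apply F (B ⧸ n) P, MvPolynomial.algebraMap_eq, eval₂Hom_C]
        exact σ.commutes c }
  have hπC : ∀ l, π (C l) = σ l := fun l => eval₂Hom_C _ _ _
  have hπX : ∀ i, π (X i) = x i := fun i => eval₂Hom_X' _ _ _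
  -- `n` is generated by the `x i`
  have hspan : n ≤ Ideal.span (Set.range fun i => (x i : B)) := by
    refine Submodule.le_of_le_smul_of_le_jacobson_bot (IsNoetherian.noetherian n) ((le_of_eq hn_def).trans (maximalIdeal_le_jacobson ⊥)) ?_
    intro y hy
    have hy' : n.toCotangent ⟨y, hy⟩ ∈ Submodule.span (B ⧸ n) (Set.range b) := by rw [b.span_eq]; trivial
    obtain ⟨c, hc⟩ := (Submodule.mem_span_range_iff_exists_fun _).1 hy'
    have h0 : n.toCotangent ⟨y, hy⟩ = n.toCotangent (∑ i, σ (c i) • x i) := by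
      rw [map_sum, ← hc]
      refine Finset.sum_congr rfl fun i _ => ?_
      rw [map_smul, hx, ← hσ (c i)]
      simp only [hσ]
      conv_lhs => rw [← hσ (c i)]
      rfl
    rw [Ideal.toCotangent_eq] at h0
    refine Submodule.mem_sup.2 ⟨∑ i, σ (c i) * (x i : B), ?_, y - ∑ i, σ (c i) * (x i : B), ?_, by ring⟩
    · exact Ideal.sum_mem _ fun i _ => Ideal.mul_mem_left _ _ (Ideal.subset_span ⟨i, rfl⟩)
    · rw [smul_eq_mul, ← sq]
      simpa using h0
  have hsurj : Function.Surjective π := by
    obtain ⟨N, hN⟩ := hnil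
    have step : ∀ k, ∀ z ∈ n ^ k, ∃ p, z - π p ∈ n ^ (k + 1) := by
      intro k
      induction k with
      | zero =>
        intro z _
        refine ⟨C (Ideal.Quotient.mk n z), ?_⟩
        rw [zero_add, pow_one, ← Ideal.Quotient.eq, hπC, hσ]
      | succ k ih =>
        intro z hz
        rw [pow_succ'] at hz
        refine Submodule.mul_induction_on hz (fun a ha c hc => ?_) fun a b ⟨p, hp⟩ ⟨q, hq⟩ =>
          ⟨p + q, by rw [map_add, add_sub_add_comm]; exact add_mem hp hq⟩
        obtain ⟨q, hq⟩ := ih c hc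
        obtain ⟨e, he⟩ := (Ideal.mem_span_range_iff_exists_fun).1 (hspan ha)
        refine ⟨(∑ i, C (Ideal.Quotient.mk n (e i)) * X i) * q, ?_⟩
        rw [map_mul, ← he, map_sum]
        simp only [map_mul, hπC, hπX]
        have h1 : ∑ i, e i * (x i : B) - ∑ i, σ (Ideal.Quotient.mk n (e i)) * (x i : B) ∈ n ^ 2 := by
          rw [← Finset.sum_sub_distrib]
          refine Ideal.sum_mem _ fun i _ => ?_
          rw [← sub_mul, sq]
          exact Ideal.mul_mem_mul (Ideal.Quotient.eq.1 (hσ _).symm) (x i).2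
        have h2 : (∑ i, σ (Ideal.Quotient.mk n (e i)) * (x i : B)) ∈ n :=
          Ideal.sum_mem _ fun i _ => Ideal.mul_mem_left _ _ (x i).2
        rw [show ∀ a a' c c' : B, a * c - a' * c' = (a - a') * c + a' * (c - c') from fun a a' c c' => by ring]
        refine add_mem ?_ ?_
        · rw [show k + 1 + 1 = 2 + k by ring, pow_add]
          exact Ideal.mul_mem_mul h1 hc
        · rw [pow_succ']
          exact Ideal.mul_mem_mul h2 hq
    have all : ∀ j k, k + j = N → ∀ z ∈ n ^ k, ∃ p, π p = z := by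
      intro j
      induction j with
      | zero => intro k hk z hz; exact ⟨0, by rw [show k = N by omega, hN] at hz; rw [map_zero]; exact (Ideal.mem_bot.1 hz).symm⟩
      | succ j ih =>
        intro k hk z hz
        obtain ⟨p, hp⟩ := step k z hz
        obtain ⟨q, hq⟩ := ih (k + 1) (by omega) _ hp
        exact ⟨p + q, by rw [map_add, hq]; ring⟩
    exact fun z => all N 0 (by omega) z (by simp)
  let M : Ideal P := Ideal.span (Set.range X)
  let J : Ideal P := RingHom.ker π
  have hlin : ∀ p : P, ∃ (c₀ : B ⧸ n) (c : Fin r → B ⧸ n), p - C c₀ - ∑ i, C (c i) * X i ∈ M * M := by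
    intro p
    induction p using MvPolynomial.induction_on with
    | C a => exact ⟨a, 0, by simp⟩
    | add p q hp hq =>
      obtain ⟨a, c, h⟩ := hp
      obtain ⟨a', c', h'⟩ := hq
      refine ⟨a + a', c + c', ?_⟩
      convert add_mem h h' using 1
      simp only [map_add, Pi.add_apply, add_mul, Finset.sum_add_distrib]
      ring
    | mul_X p j hp =>
      obtain ⟨a, c, h⟩ := hp
      refine ⟨0, Pi.single j a, ?_⟩
      rw [Finset.sum_eq_single j (fun i _ hij => by simp [Pi.single_apply, hij]) (by simp), Pi.single_eq_same,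
        map_zero, sub_zero]
      have : p * X j - C a * X j = (p - C a - ∑ i, C (c i) * X i) * X j + (∑ i, C (c i) * X i) * X j := by ring
      rw [this]
      exact add_mem (Ideal.mul_mem_right _ _ h) (Ideal.mul_mem_mul
        (Ideal.sum_mem _ fun i _ => Ideal.mul_mem_left _ _ (Ideal.subset_span ⟨i, rfl⟩)) (Ideal.subset_span ⟨j, rfl⟩))
  have hπM : M ≤ n.comap π := Ideal.span_le.2 (by
    rintro _ ⟨i, rfl⟩
    show π (X i) ∈ n
    rw [hπX]; exact (x i).2)
  have hJM : J ≤ M * M := by
    intro p hp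
    obtain ⟨c₀, c, h⟩ := hlin p
    have h' : π (p - C c₀ - ∑ i, C (c i) * X i) ∈ n ^ 2 := by
      rw [sq]
      refine (?_ : M * M ≤ (n * n).comap π) h
      exact Ideal.mul_le.2 fun a ha b hb => by
        rw [Ideal.mem_comap, map_mul]; exact Ideal.mul_mem_mul (hπM ha) (hπM hb)
    rw [map_sub, map_sub, RingHom.mem_ker.1 hp, map_sum] at h'
    simp only [map_mul, hπC, hπX] at h'
    have hc₀ : c₀ = 0 := by
      have h1 : σ c₀ + ∑ i, σ (c i) * (x i : B) ∈ n := by
        have := neg_mem (Ideal.pow_le_self two_ne_zero h')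
        convert this using 1; ring
      have h2 : σ c₀ ∈ n :=
        (Submodule.add_mem_iff_left _ (Ideal.sum_mem _ fun i _ => Ideal.mul_mem_left _ _ (x i).2)).1 h1
      rw [← hσ c₀]; exact Ideal.Quotient.eq_zero_iff_mem.2 h2
    subst hc₀
    rw [map_zero, sub_zero, zero_sub] at h'
    have hc : c = 0 := by
      have h3 : n.toCotangent (∑ i, σ (c i) • x i) = 0 := by
        rw [Ideal.toCotangent_eq_zero]
        simpa using neg_mem h'
      have h4 : ∑ i, c i • b i = 0 := by
        rw [← h3, map_sum]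
        refine Finset.sum_congr rfl fun i _ => ?_
        rw [map_smul, hx]
        conv_lhs => rw [← hσ (c i)]
        rfl
      exact funext (Fintype.linearIndependent_iff.1 b.linearIndependent c h4)
    subst hc
    simpa using h
  exact ⟨r, x, π, hsurj, hπX, hspan, hJM⟩

/-- If `B` and its residue field are formally smooth over `F`, an artinian local `B` is a field. -/
theorem isField_of_formallySmooth (F B : Type u) [CommRing F] [CommRing B] [Algebra F B] [IsLocalRing B]
    [IsArtinianRing B] [Algebra.FormallySmooth F B] [Algebra.FormallySmooth F (B ⧸ maximalIdeal B)] :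
    IsField B := by
  classical
  set n := maximalIdeal B with hn_def
  have hnil : IsNilpotent n := by
    rw [hn_def]
    exact maximalIdeal_le_jacobson (⊥ : Ideal B) |>.antisymm (jacobson_eq_maximalIdeal ⊥ bot_ne_top).le ▸
      IsArtinianRing.isNilpotent_jacobson_bot
  letI : Field (B ⧸ n) := Ideal.Quotient.field n
  let σ : (B ⧸ n) →ₐ[F] B := Algebra.FormallySmooth.lift n hnil (AlgHom.id F (B ⧸ n))
  have hσ : ∀ l, Ideal.Quotient.mk n (σ l) = l := fun l => Algebra.FormallySmooth.mk_lift n hnil _ l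
  obtain ⟨r, x, π, hsurj, hπX, hspan, hJM⟩ := exists_presentation n hn_def hnil σ hσ
  let P := MvPolynomial (Fin r) (B ⧸ n)
  let M : Ideal P := Ideal.span (Set.range X)
  let J : Ideal P := RingHom.ker π
  have hJK : J ≤ M * J := ker_le_mul π hsurj M hJM
  have hpow : ∀ k, J ≤ M ^ k := fun k => by
    induction k with
    | zero => simp
    | succ k ih => rw [pow_succ']; exact hJK.trans (Ideal.mul_mono_right ih)
  rcases Nat.eq_zero_or_pos r with hr | hr
  · have hn0 : n = ⊥ := le_bot_iff.1 (hspan.trans (Ideal.span_le.2 (by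
      rintro _ ⟨i, rfl⟩; exact absurd i.2 (by omega))))
    exact isField_iff_maximalIdeal_eq.2 hn0
  · exfalso
    obtain ⟨N, hN⟩ := hnil
    have hXJ : (X ⟨0, hr⟩ : P) ^ N ∈ J := by
      rw [RingHom.mem_ker, map_pow, hπX, ← Ideal.mem_bot, ← Ideal.zero_eq_bot, ← hN]
      exact Ideal.pow_mem_pow (x _).2 N
    let φ : P →ₐ[B ⧸ n] Polynomial (B ⧸ n) := MvPolynomial.aeval fun _ => Polynomial.X
    have h2 : M.map φ ≤ Ideal.span {Polynomial.X} := by
      rw [Ideal.map_span, Ideal.span_le]
      rintro _ ⟨_, ⟨i, rfl⟩, rfl⟩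
      exact Ideal.subset_span (Set.mem_singleton_iff.2 (MvPolynomial.aeval_X (R := B ⧸ n) _ i))
    have h1 := Ideal.mem_map_of_mem φ (hpow (N + 1) hXJ)
    rw [Ideal.map_pow] at h1
    have h3 := Ideal.pow_right_mono h2 _ h1
    rw [Ideal.span_singleton_pow, Ideal.mem_span_singleton, map_pow, aeval_X,
      Polynomial.X_pow_dvd_iff] at h3
    exact one_ne_zero ((Polynomial.coeff_X_pow_self (R := B ⧸ n) N).symm.trans (h3 N (by omega)))

/-- An artinian local algebra, formally smooth over a field, is a field. -/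
theorem isField_of_formallySmooth_field (k B : Type u) [Field k] [CommRing B] [Algebra k B] [IsLocalRing B]
    [IsArtinianRing B] [Algebra.FormallySmooth k B] : IsField B := by
  letI : Field (B ⧸ maximalIdeal B) := Ideal.Quotient.field _
  obtain h0 | ⟨p, hp, hpk⟩ := CharP.exists' k
  · let f : ULift.{u} ℚ →+* k := (algebraMap ℚ k).comp ULift.ringEquiv.toRingHom
    letI : Algebra (ULift.{u} ℚ) k := f.toAlgebra
    letI : Algebra (ULift.{u} ℚ) B := ((algebraMap k B).comp f).toAlgebra
    haveI := IsScalarTower.of_algebraMap_eq (R := ULift.{u} ℚ) (S := k) (A := B) fun _ => rfl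
    haveI : CharZero (ULift.{u} ℚ) := charZero_of_injective_ringHom
      (f := (ULift.ringEquiv.symm : ℚ ≃+* ULift.{u} ℚ).toRingHom) ULift.ringEquiv.symm.injective
    haveI : Algebra.FormallySmooth (ULift.{u} ℚ) k := GrothLib.SepField.formallySmooth_of_charZero
    haveI : Algebra.FormallySmooth (ULift.{u} ℚ) B := Algebra.FormallySmooth.comp _ k B
    haveI : Algebra.FormallySmooth (ULift.{u} ℚ) (B ⧸ maximalIdeal B) :=
      GrothLib.SepField.formallySmooth_of_charZero
    exact isField_of_formallySmooth (ULift.{u} ℚ) B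
  · haveI : CharP (GrothLib.SepField.PrimeFld.{u} p) p := charP_of_injective_ringHom
      (f := (ULift.ringEquiv.symm : ZMod p ≃+* GrothLib.SepField.PrimeFld.{u} p).toRingHom)
      ULift.ringEquiv.symm.injective p
    haveI : PerfectRing (GrothLib.SepField.PrimeFld.{u} p) p := PerfectRing.ofFiniteOfIsReduced p _
    let f : GrothLib.SepField.PrimeFld.{u} p →+* k := (ZMod.castHom (dvd_refl p) k).comp ULift.ringEquiv.toRingHom
    letI : Algebra (GrothLib.SepField.PrimeFld.{u} p) k := f.toAlgebra
    letI : Algebra (GrothLib.SepField.PrimeFld.{u} p) B := ((algebraMap k B).comp f).toAlgebra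
    haveI : IsScalarTower (GrothLib.SepField.PrimeFld.{u} p) k B := .of_algebraMap_eq fun _ => rfl
    haveI : Algebra.FormallySmooth (GrothLib.SepField.PrimeFld.{u} p) k := GrothLib.SepField.formallySmooth_perfect p
    haveI : Algebra.FormallySmooth (GrothLib.SepField.PrimeFld.{u} p) B := Algebra.FormallySmooth.comp _ k B
    haveI : CharP (B ⧸ maximalIdeal B) p := charP_of_injective_algebraMap
      (algebraMap k (B ⧸ maximalIdeal B)).injective p
    haveI : Algebra.FormallySmooth (GrothLib.SepField.PrimeFld.{u} p) (B ⧸ maximalIdeal B) :=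
      GrothLib.SepField.formallySmooth_perfect p
    exact isField_of_formallySmooth (GrothLib.SepField.PrimeFld.{u} p) B

end GrothLib.ArtSmooth
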